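import Cfsg.Agent.Lib.NormalizerExtension.Main
import Cfsg.Agent.Lib.Blocks.Principal
import Cfsg.Agent.Lib.PSolvable
import Cfsg.Agent.Lib.Blocks.HallHigman
import Cfsg.Agent.S4492

/-!
# The `p'`-degree characters of two principal blocks
-/

namespace CfsgLib.NormalizerExtension

open Cfsg CfsgLib CfsgLib.CharTheory CfsgLib.Blocks CfsgLib.PSolvableLinear
open scoped ComplexConjugate

set_option autoImplicit false
set_option linter.unusedSectionVars false
set_option linter.style.haveILetI false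

universe u

variable {G : Type u} [Group G] [Fintype G] {p : ℕ} [Fact p.Prime]

/-- A subgroup in the kernel of all `p'`-degree characters meets `P` inside `P'`. -/
theorem inf_le_commutator (P : Sylow p G) (M : Subgroup G)
    (h : ∀ χ : IrrCharacter G, ¬ p ∣ charDegree (χ : G → ℂ) → ∀ x ∈ M, (χ : G → ℂ) x = (χ : G → ℂ) 1) :
    M ⊓ (P : Subgroup G) ≤ (commutator (P : Subgroup G)).map (P : Subgroup G).subtype := by
  classical
  rintro x ⟨hxM, hxP⟩
  by_contra hx
  haveI := Fintype.ofFinite (P : Subgroup G)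
  set xP : (P : Subgroup G) := ⟨x, hxP⟩
  obtain ⟨lam, -, hlam, hdeg⟩ := exists_detect (commutator (P : Subgroup G)) ⊤
    (fun a _ b _ => commutatorElement_def a b ▸ Subgroup.commutator_mem_commutator (Subgroup.mem_top a) (Subgroup.mem_top b))
    (g := xP) (fun hmem => hx ⟨xP, hmem, rfl⟩)
  rw [Subgroup.index_top, Nat.dvd_one] at hdeg
  have hlam1 : (lam : ↥(P : Subgroup G) → ℂ) 1 = 1 := by rw [← irr_charDegree_cast, hdeg, Nat.cast_one]
  have hind := isCharacter_indFun (P : Subgroup G) (isCharacter_of_irr lam.2)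
  choose c hc using fun χ : IrrCharacter G => classInner_char_nat hind (isCharacter_of_irr χ.2)
  have hdegsum : (P : Subgroup G).index = ∑ χ : IrrCharacter G, c χ * charDegree (χ : G → ℂ) := by
    have h1 := congrFun (eq_sum_irr (indFun_isClassFunction (P : Subgroup G) (lam : ↥(P : Subgroup G) → ℂ))) 1
    simp only [Finset.sum_apply, Pi.smul_apply, smul_eq_mul, hc, ← irr_charDegree_cast, indFun_apply_one,
      hlam1, mul_one] at h1
    exact_mod_cast h1
  obtain ⟨χ, hχc, hχp⟩ : ∃ χ, c χ ≠ 0 ∧ ¬ p ∣ charDegree (χ : G → ℂ) := by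
    by_contra hno
    push Not at hno
    refine P.not_dvd_index (hdegsum ▸ Finset.dvd_sum fun χ _ => ?_)
    rcases eq_or_ne (c χ) 0 with h0 | h0
    · rw [h0, zero_mul]; exact dvd_zero p
    · exact dvd_mul_of_dvd_right (hno χ h0) _
  have hne : classInner (fun u : (P : Subgroup G) => (χ : G → ℂ) u) (lam : ↥(P : Subgroup G) → ℂ) ≠ 0 := by
    intro h0
    have h1 := hc χ
    rw [frobenius_reciprocity _ _ (isClassFunction_irr χ.2), ← classInner_comm, h0, map_zero] at h1
    exact hχc (by exact_mod_cast h1.symm)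
  obtain ⟨d, hd, hdn⟩ := res_decomp (isCharacter_of_irr χ.2) (P : Subgroup G) (irr_charDegree_cast χ).symm
  have hdlam : d lam ≠ 0 := by
    intro h0
    apply hne
    rw [show (fun u : (P : Subgroup G) => (χ : G → ℂ) u) =
      ∑ β : IrrCharacter (P : Subgroup G), (d β : ℂ) • (β : ↥(P : Subgroup G) → ℂ) from
      funext fun u => by rw [hd]; simp [Finset.sum_apply], classInner_sum_left]
    refine Finset.sum_eq_zero fun β _ => ?_
    by_cases hb : β = lam
    · rw [hb, h0, Nat.cast_zero, classInner_smul_left, zero_mul]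
    · rw [classInner_smul_left, classInner_irr_ne β.2 lam.2 (fun e => hb (Subtype.ext e)), mul_zero]
  have hker := h χ hχp x hxM
  rw [show x = ((xP : (P : Subgroup G)) : G) from rfl,
    show (χ : G → ℂ) 1 = (χ : G → ℂ) ((1 : (P : Subgroup G)) : G) from rfl, hd, hd] at hker
  have hre := congrArg Complex.re hker
  simp only [Complex.re_sum] at hre
  have hle : ∀ β ∈ (Finset.univ : Finset (IrrCharacter (P : Subgroup G))),
      ((d β : ℂ) * (β : ↥(P : Subgroup G) → ℂ) xP).re ≤ ((d β : ℂ) * (β : ↥(P : Subgroup G) → ℂ) 1).re := by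
    intro β _
    simp only [Complex.mul_re, Complex.natCast_re, Complex.natCast_im, zero_mul, sub_zero]
    refine mul_le_mul_of_nonneg_left ?_ (Nat.cast_nonneg _)
    rw [← irr_charDegree_cast, Complex.natCast_re]
    exact (Complex.re_le_norm _).trans ((norm_char_le (isCharacter_of_irr β.2) _).trans
      (le_of_eq (by rw [← irr_charDegree_cast, Complex.norm_natCast])))
  have heq := (Finset.sum_eq_sum_iff_of_le hle).1 hre lam (Finset.mem_univ lam)
  simp only [Complex.mul_re, Complex.natCast_re, Complex.natCast_im, zero_mul, sub_zero] at heq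
  have heq' := mul_left_cancel₀ (Nat.cast_ne_zero.2 hdlam) heq
  rw [hlam1, Complex.one_re] at heq'
  have hnorm := norm_char_le (isCharacter_of_irr lam.2) xP
  rw [hlam1, norm_one] at hnorm
  have hsq := Complex.sq_norm ((lam : ↥(P : Subgroup G) → ℂ) xP)
  rw [Complex.normSq_apply, heq'] at hsq
  have h5 : ((lam : ↥(P : Subgroup G) → ℂ) xP).im = 0 := by
    nlinarith [norm_nonneg ((lam : ↥(P : Subgroup G) → ℂ) xP)]
  exact hlam (Complex.ext (by rw [heq', hlam1, Complex.one_re]) (by rw [h5, hlam1, Complex.one_im]))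

/-- With trivial `p'`-core, such a normal subgroup is a `p`-group. -/
theorem isPGroup_of_inf_le (hcore : pPrimeCore p G = ⊥) (P : Sylow p G) (M : Subgroup G) [hMn : M.Normal]
    (h : M ⊓ (P : Subgroup G) ≤ (commutator (P : Subgroup G)).map (P : Subgroup G).subtype) :
    IsPGroup p M := by
  classical
  obtain ⟨Q, O, hOn, hOc⟩ := hasNormalPComplement_of_inf_le_frattini P M
    (h.trans (Subgroup.map_mono (commutator_le_frattini_pGroup P.2)))
  have hOp : (Nat.card O).Coprime p := by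
    rw [← hOc.index_eq_card]
    exact ((Fact.out : p.Prime).coprime_iff_not_dvd.2 Q.not_dvd_index).symm
  haveI := hOn
  have h1 : O ≤ pPrimeCore p M := le_pPrimeCore hOp
  have h2 : (pPrimeCore p M).map M.subtype ≤ pPrimeCore p G :=
    le_pPrimeCore (by rw [Subgroup.card_map_of_injective M.subtype_injective]; exact card_pPrimeCore_coprime p)
  have h3 : O = ⊥ := by
    rw [← Subgroup.map_eq_bot_iff_of_injective O M.subtype_injective, eq_bot_iff, ← hcore]
    exact (Subgroup.map_mono h1).trans h2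
  have h4 : Nat.card M = Nat.card Q := by
    rw [← hOc.card_mul, h3, Subgroup.card_bot, one_mul]
  obtain ⟨k, hk⟩ := IsPGroup.iff_card.1 Q.2
  exact IsPGroup.of_card (h4.trans hk)

/-- The image of a subgroup killed by the `p'`-degree characters trivial on the core. -/
theorem core_quotient_eq_bot (L : Subgroup G) [L.Normal] (hBL : pPrimeCore p G ≤ L)
    (hker : ∀ χ : IrrCharacter G, ¬ p ∣ charDegree (χ : G → ℂ) →
      (∀ n ∈ pPrimeCore p G, (χ : G → ℂ) n = (χ : G → ℂ) 1) → ∀ x ∈ L, (χ : G → ℂ) x = (χ : G → ℂ) 1) :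
    pPrimeCore p (G ⧸ L) = ⊥ ∧ (p ∣ Nat.card G → L ≠ ⊤) := by
  classical
  set B := pPrimeCore p G with hB
  set π := QuotientGroup.mk' B with hπ
  have hsurj := QuotientGroup.mk'_surjective B
  haveI := Fintype.ofFinite (G ⧸ B)
  have hcore := CfsgLib.pPrimeCore_quotient_eq_bot (G := G) p
  obtain ⟨P⟩ : Nonempty (Sylow p G) := inferInstance
  set Pb := P.mapSurjective hsurj with hPb
  haveI : (L.map π).Normal := Subgroup.Normal.map inferInstance π hsurj
  have hLinf : L.map π ⊓ (Pb : Subgroup (G ⧸ B)) ≤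
      (commutator (Pb : Subgroup (G ⧸ B))).map (Pb : Subgroup (G ⧸ B)).subtype := by
    refine inf_le_commutator Pb (L.map π) fun χ hχ y hy => ?_
    obtain ⟨x, hx, rfl⟩ := hy
    refine hker ⟨fun g => (χ : G ⧸ B → ℂ) (g : G ⧸ B),
      isIrrCharacter_comp_surjective χ.2 π hsurj⟩ ?_ (fun n hn => ?_) x hx
    · exact hχ
    · show (χ : G ⧸ B → ℂ) (n : G ⧸ B) = (χ : G ⧸ B → ℂ) ((1 : G) : G ⧸ B)
      rw [(QuotientGroup.eq_one_iff n).2 hn, QuotientGroup.mk_one]
  have hLp : IsPGroup p (L.map π) := isPGroup_of_inf_le hcore Pb _ hLinf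
  have hLD : L.map π ≤ (commutator (Pb : Subgroup (G ⧸ B))).map (Pb : Subgroup (G ⧸ B)).subtype :=
    le_trans (le_inf le_rfl (hLp.le_sylow_of_normal Pb)) hLinf
  constructor
  · set f := QuotientGroup.mk' L with hf
    set Y := (pPrimeCore p (G ⧸ L)).comap f with hY
    haveI : Y.Normal := Subgroup.Normal.comap inferInstance _
    haveI : (Y.map π).Normal := Subgroup.Normal.map inferInstance π hsurj
    have hLY : L ≤ Y := fun x hx => by
      show f x ∈ pPrimeCore p (G ⧸ L)
      rw [hf, QuotientGroup.mk'_apply, (QuotientGroup.eq_one_iff x).2 hx]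
      exact one_mem _
    have hYP : Y.map π ⊓ (Pb : Subgroup (G ⧸ B)) ≤ L.map π := by
      rintro _ ⟨⟨y, hy, rfl⟩, v, hv, hvy⟩
      have h1 : v⁻¹ * y ∈ B := QuotientGroup.eq.1 hvy
      have hvY : v ∈ Y := by
        have := mul_mem hy (inv_mem (hLY (hBL h1)))
        simpa using this
      refine ⟨v, ?_, hvy⟩
      show v ∈ L
      rw [← QuotientGroup.eq_one_iff, ← orderOf_eq_one_iff]
      obtain ⟨k, hk⟩ := IsPGroup.iff_card.1 P.2
      exact Nat.eq_one_of_dvd_coprimes ((card_pPrimeCore_coprime (G := G ⧸ L) p).symm.pow_left k)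
        (hk ▸ (orderOf_map_dvd f v).trans (Subgroup.orderOf_dvd_natCard _ hv))
        (Subgroup.orderOf_dvd_natCard _ hvY)
    have hYp : IsPGroup p (Y.map π) := isPGroup_of_inf_le hcore Pb _ (hYP.trans hLD)
    rw [eq_bot_iff]
    intro z hz
    obtain ⟨y, rfl⟩ := QuotientGroup.mk'_surjective L z
    have hy : π y ∈ L.map π := hYP ⟨Subgroup.mem_map_of_mem π hz, hYp.le_sylow_of_normal Pb (Subgroup.mem_map_of_mem π hz)⟩
    obtain ⟨x, hx, hxy⟩ := hy
    rw [Subgroup.mem_bot, QuotientGroup.mk'_apply, QuotientGroup.eq_one_iff]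
    have h1 : x⁻¹ * y ∈ B := QuotientGroup.eq.1 hxy
    simpa using mul_mem hx (hBL h1)
  · intro hpG hLtop
    subst hLtop
    have htop : (⊤ : Subgroup (G ⧸ B)) ≤ (commutator (Pb : Subgroup (G ⧸ B))).map (Pb : Subgroup (G ⧸ B)).subtype := by
      rw [← Subgroup.map_top_of_surjective π hsurj]; exact hLD
    rcases subsingleton_or_nontrivial (Pb : Subgroup (G ⧸ B)) with hs | hnt
    · have h1 : (⊤ : Subgroup (G ⧸ B)) = ⊥ := by
        rw [eq_bot_iff]
        refine htop.trans ?_
        rintro _ ⟨w, -, rfl⟩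
        rw [Subgroup.mem_bot, Subsingleton.elim w 1, map_one]
      have h2 : (⊤ : Subgroup G) ≤ B := fun g _ => by
        rw [← QuotientGroup.eq_one_iff, ← Subgroup.mem_bot, ← h1]; exact Subgroup.mem_top _
      have h3 : Nat.card B = Nat.card G := by rw [top_le_iff.1 h2, Subgroup.card_top]
      exact (Fact.out : p.Prime).coprime_iff_not_dvd.1 (card_pPrimeCore_coprime p).symm (h3 ▸ hpG)
    · haveI : Group.IsNilpotent (Pb : Subgroup (G ⧸ B)) := Pb.2.isNilpotent
      haveI : Group.IsSolvable (Pb : Subgroup (G ⧸ B)) := inferInstance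
      refine (Group.IsSolvable.commutator_lt_top_of_nontrivial (Pb : Subgroup (G ⧸ B))).ne (eq_top_iff.2 fun w _ => ?_)
      obtain ⟨v, hv, hvw⟩ := htop (Subgroup.mem_top (w : G ⧸ B))
      exact (Subtype.ext hvw : v = w) ▸ hv

/-- Membership of the principal block. -/
theorem mem_principal_of_trivial {M : Ideal AlgInt} (hM : IsPModular p M) (hsolv : IsPSolvable p G)
    (χ : IrrCharacter G) (h : ∀ n ∈ pPrimeCore p G, (χ : G → ℂ) n = (χ : G → ℂ) 1) :
    χ ∈ principalBlock M G := by
  classical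
  haveI := Fintype.ofFinite (pPrimeCore p G)
  obtain ⟨B₀, hB₀, hmem, -, -⟩ := Cfsg.Agent.S4492.result p M hM hsolv (pPrimeCore p G) rfl
    ⟨_, isIrrCharacter_one⟩ (fun g n => rfl)
  have hone : oneIrr G ∈ B₀ := (hmem _).2 (by
    show classInner (fun _ : pPrimeCore p G => (1 : ℂ)) (fun _ => 1) ≠ 0
    rw [classInner_irr_self isIrrCharacter_one]; exact one_ne_zero)
  have hB : principalBlock M G = B₀ := (eq_blockOf hM hB₀ hone).symm
  rw [hB]
  refine (hmem _).2 ?_
  show classInner (fun n : pPrimeCore p G => (χ : G → ℂ) n) (fun _ => 1) ≠ 0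
  rw [show (fun n : pPrimeCore p G => (χ : G → ℂ) n) = (χ : G → ℂ) 1 • fun _ => (1 : ℂ) from
    funext fun n => by simp [h n n.2], classInner_smul_left, classInner_irr_self isIrrCharacter_one, mul_one]
  exact irr_ne_zero χ.2

/-- Two principal blocks with the same characters of height zero. -/
theorem two_primes {q : ℕ} [Fact q.Prime] (hp : p ∣ Nat.card G) (hq : q ∣ Nat.card G)
    (hps : IsPSolvable p G) (hqs : IsPSolvable q G) {Mp Mq : Ideal AlgInt} (hMp : IsPModular p Mp)
    (hMq : IsPModular q Mq)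
    (h : ∀ χ : IrrCharacter G, (χ ∈ principalBlock Mp G ∧ ¬ p ∣ charDegree (χ : G → ℂ)) ↔
      (χ ∈ principalBlock Mq G ∧ ¬ q ∣ charDegree (χ : G → ℂ))) : p = q := by
  classical
  by_contra hpq
  set A := pPrimeCore q G
  set B := pPrimeCore p G
  set L := A ⊔ B with hL
  haveI : L.Normal := Subgroup.sup_normal A B
  have hkerA : ∀ χ : IrrCharacter G, χ ∈ principalBlock Mq G → ∀ x ∈ A, (χ : G → ℂ) x = (χ : G → ℂ) 1 :=
    fun χ hχ x hx => principal_kernel hMq (not_dvd_card_pPrimeCore Fact.out) hχ hx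
  have hkerB : ∀ χ : IrrCharacter G, χ ∈ principalBlock Mp G → ∀ x ∈ B, (χ : G → ℂ) x = (χ : G → ℂ) 1 :=
    fun χ hχ x hx => principal_kernel hMp (not_dvd_card_pPrimeCore Fact.out) hχ hx
  have hsup : ∀ χ : IrrCharacter G, χ ∈ principalBlock Mp G → χ ∈ principalBlock Mq G →
      ∀ x ∈ L, (χ : G → ℂ) x = (χ : G → ℂ) 1 := by
    intro χ h1 h2 x hx
    have hle : L ≤ charHull L := le_charHull L
    have hx' : x ∈ ((A ⊔ B : Subgroup G) : Set G) := hx
    rw [Subgroup.normal_mul] at hx'
    obtain ⟨a, ha, b, hb, rfl⟩ := hx'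
    obtain ⟨n, ρ, hρ⟩ := isCharacter_of_irr χ.2
    have e1 : ρ a = 1 := rep_apply_eq_one_of_char_eq ρ (by rw [hρ]; exact hkerA χ h2 a ha)
    have e2 : ρ b = 1 := rep_apply_eq_one_of_char_eq ρ (by rw [hρ]; exact hkerB χ h1 b hb)
    rw [← hρ, Representation.character, Representation.character, ρ.map_mul, e1, e2, one_mul, ρ.map_one]
  obtain ⟨hcp, hLp⟩ := core_quotient_eq_bot (p := p) L le_sup_right fun χ hχ hB =>
    have h1 := mem_principal_of_trivial hMp hps χ hB
    hsup χ h1 ((h χ).1 ⟨h1, hχ⟩).1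
  obtain ⟨hcq, -⟩ := core_quotient_eq_bot (p := q) L le_sup_left fun χ hχ hA =>
    have h2 := mem_principal_of_trivial hMq hqs χ hA
    hsup χ ((h χ).2 ⟨h2, hχ⟩).1 h2
  -- the quotient is trivial
  have hhh := hall_higman (Cfsg.Agent.S3744.isPSolvable_quotient hps L) hcp
  obtain ⟨k, hk⟩ := IsPGroup.iff_card.1 (isPGroup_pCore (G := G ⧸ L) p)
  haveI := pCore_normal' (G := G ⧸ L) (p := p)
  have hOq : pCore p (G ⧸ L) ≤ pPrimeCore q (G ⧸ L) :=
    le_pPrimeCore (by rw [hk]; exact ((Nat.coprime_primes Fact.out Fact.out).2 hpq).pow_left k)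
  rw [hcq, le_bot_iff] at hOq
  rw [hOq] at hhh
  refine hLp hp (eq_top_iff.2 fun g _ => ?_)
  rw [← QuotientGroup.eq_one_iff, ← Subgroup.mem_bot]
  exact hhh fun z hz => by
    obtain rfl : z = 1 := hz
    rw [one_mul, mul_one]

end CfsgLib.NormalizerExtension
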