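import Cfsg.Agent.Lib.PSolvableLinear.Main
import Cfsg.Agent.Lib.CharTheory.Degree
import Cfsg.Agent.Lib.Tate
import Cfsg.Agent.Lib.CharTheory.FeitNilpotent

/-!
# Extending the characters of `p'`-degree of a Sylow normalizer
-/

namespace CfsgLib.NormalizerExtension

open Cfsg CfsgLib CfsgLib.CharTheory CfsgLib.Blocks
open scoped ComplexConjugate commutatorElement Pointwise

set_option autoImplicit false
set_option linter.unusedSectionVars false
set_option linter.style.haveILetI false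

universe u

section

variable {H : Type u} [Group H] [Fintype H]

/-- An element outside a normal subgroup is detected by a character trivial on it, of degree dividing
the index of any normal subgroup abelian modulo it. -/
theorem exists_detect (D A : Subgroup H) [D.Normal] [A.Normal]
    (hA : ∀ a ∈ A, ∀ b ∈ A, a * b * a⁻¹ * b⁻¹ ∈ D) {g : H} (hg : g ∉ D) :
    ∃ θ : IrrCharacter H, (∀ d ∈ D, (θ : H → ℂ) d = (θ : H → ℂ) 1) ∧
      (θ : H → ℂ) g ≠ (θ : H → ℂ) 1 ∧ charDegree (θ : H → ℂ) ∣ A.index := by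
  classical
  haveI := Fintype.ofFinite (H ⧸ D)
  obtain ⟨α, hα⟩ : ∃ α : IrrCharacter (H ⧸ D), (α : H ⧸ D → ℂ) (g : H ⧸ D) ≠ (α : H ⧸ D → ℂ) 1 := by
    by_contra hcon
    push Not at hcon
    have h := sum_irr_mul_conj (G := H ⧸ D) (g : H ⧸ D) 1
    have h2 := sum_irr_mul_conj (G := H ⧸ D) (1 : H ⧸ D) 1
    simp only [hcon] at h
    rw [if_pos (IsConj.refl 1)] at h2
    rw [if_neg (fun hc => hg ((QuotientGroup.eq_one_iff g).1 (isConj_one_left.1 hc)))] at h
    rw [h] at h2
    exact Nat.cast_ne_zero.2 Nat.card_pos.ne' h2.symm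
  refine ⟨⟨fun x => (α : H ⧸ D → ℂ) (x : H ⧸ D),
    isIrrCharacter_comp_surjective α.2 (QuotientGroup.mk' D) (QuotientGroup.mk'_surjective D)⟩,
    fun d hd => by
      show (α : H ⧸ D → ℂ) (d : H ⧸ D) = (α : H ⧸ D → ℂ) ((1 : H) : H ⧸ D)
      rw [(QuotientGroup.eq_one_iff d).2 hd, QuotientGroup.mk_one],
    hα, ?_⟩
  obtain ⟨n, ρ, hρ, hρe⟩ := α.2
  have h3 := degree_dvd_index_of_abelian_normal ρ (A.map (QuotientGroup.mk' D)) (by
    rintro _ ⟨a, ha, rfl⟩ _ ⟨b, hb, rfl⟩
    rw [← mul_inv_eq_iff_eq_mul, ← mul_inv_eq_one, ← map_mul, ← map_inv, ← map_mul, ← map_inv, ← map_mul,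
      QuotientGroup.mk'_apply, QuotientGroup.eq_one_iff]
    exact hA a ha b hb)
  have h4 : charDegree (fun x : H => (α : H ⧸ D → ℂ) (x : H ⧸ D)) = Module.finrank ℂ (Fin n → ℂ) := by
    have h5 : (α : H ⧸ D → ℂ) ((1 : H) : H ⧸ D) = (Module.finrank ℂ (Fin n → ℂ) : ℂ) := by
      rw [QuotientGroup.mk_one, ← hρe, ρ.char_one]
    show ⌊((α : H ⧸ D → ℂ) ((1 : H) : H ⧸ D)).re⌋₊ = _
    rw [h5, Complex.natCast_re, Nat.floor_natCast]
  rw [h4]
  exact h3.trans (Subgroup.index_map_dvd A (QuotientGroup.mk'_surjective D))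

end

variable {G : Type u} [Group G] [Fintype G]

/-- The common kernel of the characters trivial on a subgroup. -/
def charHull (A : Subgroup G) : Subgroup G where
  carrier := {g | ∀ χ : IrrCharacter G, (∀ a ∈ A, (χ : G → ℂ) a = (χ : G → ℂ) 1) →
    (χ : G → ℂ) g = (χ : G → ℂ) 1}
  one_mem' := fun _ _ => rfl
  mul_mem' := by
    intro a b ha hb χ hχ
    obtain ⟨n, ρ, hρ⟩ := isCharacter_of_irr χ.2
    have e1 : ρ a = 1 := rep_apply_eq_one_of_char_eq ρ (by rw [hρ]; exact ha χ hχ)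
    have e2 : ρ b = 1 := rep_apply_eq_one_of_char_eq ρ (by rw [hρ]; exact hb χ hχ)
    rw [← hρ, Representation.character, Representation.character, ρ.map_mul, e1, e2, one_mul, ρ.map_one]
  inv_mem' := by
    intro a ha χ hχ
    obtain ⟨n, ρ, hρ⟩ := isCharacter_of_irr χ.2
    have e1 : ρ a = 1 := rep_apply_eq_one_of_char_eq ρ (by rw [hρ]; exact ha χ hχ)
    have e2 : ρ a⁻¹ = 1 := by
      have := map_mul ρ a a⁻¹
      rw [mul_inv_cancel, map_one, e1, one_mul] at this
      exact this.symm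
    rw [← hρ, Representation.character, Representation.character, e2, ρ.map_one]

theorem le_charHull (A : Subgroup G) : A ≤ charHull A := fun a ha _ hχ => hχ a ha

theorem charHull_mono {A B : Subgroup G} (h : A ≤ B) : charHull A ≤ charHull B :=
  fun _ hg χ hχ => hg χ fun a ha => hχ a (h ha)

instance charHull_normal (A : Subgroup G) : (charHull A).Normal :=
  ⟨fun g hg x χ hχ => by
    show (χ : G → ℂ) (x * g * x⁻¹) = (χ : G → ℂ) 1
    rw [isClassFunction_irr χ.2 g x]
    exact hg χ hχ⟩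

variable {p : ℕ} [Fact p.Prime]

/-- The hard direction. -/
theorem exists_complement (P : Sylow p G)
    (hext : ∀ θ : IrrCharacter ↥(Subgroup.normalizer ((P : Subgroup G) : Set G)),
      ¬ p ∣ charDegree (θ : ↥(Subgroup.normalizer ((P : Subgroup G) : Set G)) → ℂ) →
      ∃ χ : IrrCharacter G, ∀ x : ↥(Subgroup.normalizer ((P : Subgroup G) : Set G)),
        (χ : G → ℂ) x = (θ : ↥(Subgroup.normalizer ((P : Subgroup G) : Set G)) → ℂ) x) :
    ∃ K : Subgroup G, K.Normal ∧ K ⊔ Subgroup.normalizer ((P : Subgroup G) : Set G) = ⊤ ∧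
      K ⊓ Subgroup.normalizer ((P : Subgroup G) : Set G) = ⊥ := by
  classical
  set N := Subgroup.normalizer ((P : Subgroup G) : Set G) with hN
  haveI := Fintype.ofFinite N
  set D := ⁅(P : Subgroup G), (P : Subgroup G)⁆ with hD
  have hPN : (P : Subgroup G) ≤ N := Subgroup.le_normalizer
  have hDP : D ≤ (P : Subgroup G) := Subgroup.commutator_le_self _
  haveI hPn : ((P : Subgroup G).subgroupOf N).Normal := Subgroup.normal_in_normalizer
  haveI hDn : (D.subgroupOf N).Normal := by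
    rw [Subgroup.normal_subgroupOf_iff_le_normalizer (hDP.trans hPN)]
    intro n hn
    rw [Subgroup.mem_normalizer_iff]
    have key : ∀ n ∈ N, ∀ d ∈ D, n * d * n⁻¹ ∈ D := by
      intro n hn d hd
      have h1 : D ≤ D.comap (MulAut.conj n).toMonoidHom := by
        rw [hD, Subgroup.commutator_le]
        intro a ha b hb
        show n * ⁅a, b⁆ * n⁻¹ ∈ ⁅(P : Subgroup G), (P : Subgroup G)⁆
        rw [show n * ⁅a, b⁆ * n⁻¹ = ⁅n * a * n⁻¹, n * b * n⁻¹⁆ by simp [commutatorElement_def, mul_assoc]]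
        exact Subgroup.commutator_mem_commutator ((Subgroup.mem_normalizer_iff.1 hn a).1 ha)
          ((Subgroup.mem_normalizer_iff.1 hn b).1 hb)
      exact h1 hd
    refine fun d => ⟨key n hn d, fun h => ?_⟩
    have := key n⁻¹ (inv_mem hn) _ h
    simpa [mul_assoc] using this
  -- the hull of a normal subgroup between `P'` and `P` meets the normalizer in it
  have hmeet : ∀ B : Subgroup G, (B.subgroupOf N).Normal → D ≤ B → B ≤ (P : Subgroup G) →
      charHull B ⊓ N = B := by
    intro B hBn hDB hBP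
    refine le_antisymm (fun g hg => ?_) (le_inf (le_charHull B) (hBP.trans hPN))
    by_contra hgB
    obtain ⟨θ, hθB, hθg, hθd⟩ := exists_detect (B.subgroupOf N) ((P : Subgroup G).subgroupOf N)
      (fun a ha b hb => Subgroup.mem_subgroupOf.2 (hDB (by
        simp only [Subgroup.coe_mul, Subgroup.coe_inv]
        exact commutatorElement_def (a : G) (b : G) ▸ Subgroup.commutator_mem_commutator
          (Subgroup.mem_subgroupOf.1 ha) (Subgroup.mem_subgroupOf.1 hb))))
      (g := ⟨g, hg.2⟩) (fun h => hgB (Subgroup.mem_subgroupOf.1 h))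
    have hθp : ¬ p ∣ charDegree (θ : ↥N → ℂ) := fun h => by
      refine P.not_dvd_index ((h.trans hθd).trans ?_)
      exact Subgroup.relIndex_dvd_index_of_le hPN
    obtain ⟨χ, hχ⟩ := hext θ hθp
    refine hθg ?_
    rw [← hχ, ← hχ]
    refine hg.1 χ fun b hb => ?_
    have := hθB ⟨b, hPN (hBP hb)⟩ (Subgroup.mem_subgroupOf.2 hb)
    rw [← hχ, ← hχ] at this
    exact this
  set M := charHull (P : Subgroup G) with hM
  have hMN : M ⊓ N = (P : Subgroup G) := hmeet _ hPn hDP le_rfl
  set K := charHull D with hK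
  have hKN : K ⊓ N = D := hmeet D hDn le_rfl hDP
  have hKM : K ≤ M := charHull_mono hDP
  have hPM : (P : Subgroup G) ≤ M := le_charHull _
  haveI := Fintype.ofFinite M
  -- Frattini
  have hfrat : M ⊔ N = ⊤ := by
    have h1 := Sylow.normalizer_sup_eq_top (P.subtype hPM)
    have h2 : (P.subtype hPM : Subgroup M).map M.subtype = (P : Subgroup G) := by
      rw [Sylow.coe_subtype, Subgroup.subgroupOf_map_subtype, inf_eq_left.2 hPM]
    rw [h2] at h1
    rw [sup_comm]
    exact h1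
  -- transfer in `M / K`
  set PM := P.subtype hPM with hPMdef
  haveI : (K.subgroupOf M).Normal := Subgroup.Normal.comap inferInstance _
  set π := QuotientGroup.mk' (K.subgroupOf M) with hπ
  set Pb := PM.mapSurjective (QuotientGroup.mk'_surjective (K.subgroupOf M)) with hPb
  have hPbmem : ∀ q, q ∈ (Pb : Subgroup (M ⧸ K.subgroupOf M)) ↔ ∃ x : M, (x : G) ∈ (P : Subgroup G) ∧ π x = q :=
    fun q => Iff.rfl
  have hburn : Subgroup.normalizer ((Pb : Subgroup (M ⧸ K.subgroupOf M)) : Set (M ⧸ K.subgroupOf M)) ≤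
      Subgroup.centralizer (Pb : Subgroup (M ⧸ K.subgroupOf M)) := by
    intro q hq
    obtain ⟨x, rfl⟩ := QuotientGroup.mk'_surjective (K.subgroupOf M) q
    have hqP : π x ∈ (Pb : Subgroup (M ⧸ K.subgroupOf M)) := by
      -- Frattini in `K P`
      set KP := (K ⊔ (P : Subgroup G)) with hKP
      have hKPM : KP ≤ M := sup_le hKM hPM
      have hmap : ∀ u : M, π u ∈ (Pb : Subgroup (M ⧸ K.subgroupOf M)) → (u : G) ∈ KP := by
        intro u hu
        obtain ⟨w, hw, he⟩ := (hPbmem _).1 hu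
        have h1 : w⁻¹ * u ∈ K.subgroupOf M := QuotientGroup.eq.1 he
        have h2 : (u : G) = (w : G) * ((w : G)⁻¹ * u) := by group
        rw [h2]
        exact mul_mem (Subgroup.mem_sup_right hw) (Subgroup.mem_sup_left (Subgroup.mem_subgroupOf.1 h1))
      have hconj : ∀ a ∈ (P : Subgroup G), (x : G) * a * (x : G)⁻¹ ∈ KP := by
        intro a ha
        have h1 := (Subgroup.mem_normalizer_iff.1 hq (π ⟨a, hPM ha⟩)).1 ((hPbmem _).2 ⟨⟨a, hPM ha⟩, ha, rfl⟩)
        rw [← map_inv, ← map_mul, ← map_mul] at h1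
        exact hmap _ h1
      set S₁ := P.subtype (le_sup_right : (P : Subgroup G) ≤ KP)
      let φ : (P : Subgroup G) →* KP :=
        { toFun := fun a => ⟨(x : G) * a * (x : G)⁻¹, hconj a a.2⟩
          map_one' := Subtype.ext (by simp)
          map_mul' := fun a b => Subtype.ext (by simp [mul_assoc]) }
      obtain ⟨S₂, hS₂⟩ := IsPGroup.exists_le_sylow (P.2.of_surjective φ.rangeRestrict φ.rangeRestrict_surjective)
      obtain ⟨y, hy⟩ := MulAction.exists_smul_eq KP S₂ S₁
      have hyx : (y : G) * (x : G) ∈ N := by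
        rw [hN, Subgroup.mem_normalizer_iff]
        have key : ∀ a ∈ (P : Subgroup G), (y : G) * (x : G) * a * ((y : G) * (x : G))⁻¹ ∈ (P : Subgroup G) := by
          intro a ha
          have h1 : y * φ ⟨a, ha⟩ * y⁻¹ ∈ (S₁ : Subgroup KP) := by
            rw [← hy, Sylow.coe_subgroup_smul]
            exact ⟨φ ⟨a, ha⟩, hS₂ ⟨⟨a, ha⟩, rfl⟩, rfl⟩
          have h2 : ((y * φ ⟨a, ha⟩ * y⁻¹ : KP) : G) ∈ (P : Subgroup G) := h1
          simpa [φ, mul_assoc] using h2
        intro a
        refine ⟨key a, fun h => ?_⟩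
        have hb : Function.Bijective (fun u : (P : Subgroup G) =>
            (⟨(y : G) * (x : G) * u * ((y : G) * (x : G))⁻¹, key u u.2⟩ : (P : Subgroup G))) :=
          Finite.injective_iff_bijective.1 fun u v huv => Subtype.ext (by
            simpa using congrArg Subtype.val huv)
        obtain ⟨u, hu⟩ := hb.2 ⟨_, h⟩
        have hua : (u : G) = a := by simpa using congrArg Subtype.val hu
        exact hua ▸ u.2
      have hP' : (y : G) * (x : G) ∈ (P : Subgroup G) :=
        hMN ▸ Subgroup.mem_inf.2 ⟨mul_mem (hKPM y.2) x.2, hyx⟩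
      have hxKP : (x : G) ∈ KP := by
        have h1 := mul_mem (inv_mem y.2) ((le_sup_right : (P : Subgroup G) ≤ KP) hP')
        simpa [← mul_assoc] using h1
      have hx' : (x : G) ∈ ((K ⊔ (P : Subgroup G) : Subgroup G) : Set G) := hxKP
      rw [Subgroup.normal_mul] at hx'
      obtain ⟨k, hk, a, ha, hka⟩ := hx'
      refine (hPbmem _).2 ⟨⟨a, hPM ha⟩, ha, ?_⟩
      refine QuotientGroup.eq.2 (Subgroup.mem_subgroupOf.2 ?_)
      show a⁻¹ * (x : G) ∈ K
      rw [← hka, show a⁻¹ * (k * a) = a⁻¹ * k * a⁻¹⁻¹ by group]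
      exact (charHull_normal D).conj_mem k hk a⁻¹
    rw [Subgroup.mem_centralizer_iff]
    intro r hr
    obtain ⟨w, hw, rfl⟩ := (hPbmem r).1 hr
    obtain ⟨v, hv, hve⟩ := (hPbmem _).1 hqP
    show π w * π x = π x * π w
    rw [← hve, ← mul_inv_eq_iff_eq_mul, ← mul_inv_eq_one, ← map_mul, ← map_inv, ← map_mul, ← map_inv,
      ← map_mul, hπ, QuotientGroup.mk'_apply, QuotientGroup.eq_one_iff, Subgroup.mem_subgroupOf]
    refine (le_charHull D) ?_
    simp only [Subgroup.coe_mul, Subgroup.coe_inv]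
    exact commutatorElement_def (w : G) (v : G) ▸ Subgroup.commutator_mem_commutator hw hv
  have hcompl := MonoidHom.ker_transferSylow_isComplement' Pb hburn
  set O₂ := (MonoidHom.transferSylow Pb hburn).ker.comap π with hO₂
  haveI : O₂.Normal := Subgroup.Normal.comap inferInstance _
  have hO₂P : O₂ ⊓ (PM : Subgroup M) ≤ (frattini PM).map (PM : Subgroup M).subtype := by
    rintro u ⟨hu1, hu2⟩
    have h1 : π u = 1 := Subgroup.disjoint_def.1 hcompl.disjoint hu1 ((hPbmem _).2 ⟨u, hu2, rfl⟩)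
    have h2 : (u : G) ∈ D := by
      rw [← hKN]
      exact ⟨Subgroup.mem_subgroupOf.1 ((QuotientGroup.eq_one_iff u).1 h1), hPN hu2⟩
    -- the derived subgroup lies in the Frattini subgroup
    have h3 : commutator (PM : Subgroup M) ≤ frattini PM := commutator_le_frattini_pGroup PM.2
    have h4 : (⟨u, hu2⟩ : (PM : Subgroup M)) ∈ commutator (PM : Subgroup M) := by
      have h5 : (commutator (PM : Subgroup M)).map ((M.subtype).comp (PM : Subgroup M).subtype) = D := by
        rw [commutator_def, Subgroup.map_commutator, ← Subgroup.map_map, ← MonoidHom.range_eq_map,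
          Subgroup.range_subtype, hPMdef, Sylow.coe_subtype, Subgroup.subgroupOf_map_subtype,
          inf_eq_left.2 hPM]
      rw [← h5] at h2
      obtain ⟨w, hw, hwe⟩ := h2
      have : w = ⟨u, hu2⟩ := Subtype.ext (Subtype.ext hwe)
      exact this ▸ hw
    exact ⟨⟨u, hu2⟩, h3 h4, rfl⟩
  obtain ⟨Q, O, hOn, hOc⟩ := hasNormalPComplement_of_inf_le_frattini PM O₂ hO₂P
  -- the subgroup generated by the `p'`-elements
  set K₀ := Subgroup.closure {g : G | g ∈ M ∧ ¬ p ∣ orderOf g} with hK₀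
  have hK₀n : K₀.Normal := by
    refine ⟨fun u hu g => ?_⟩
    have hle : K₀ ≤ K₀.comap (MulAut.conj g).toMonoidHom := by
      rw [Subgroup.closure_le]
      rintro v ⟨hv1, hv2⟩
      refine Subgroup.subset_closure ⟨(charHull_normal _).conj_mem v hv1 g, ?_⟩
      show ¬ p ∣ orderOf ((MulAut.conj g) v)
      rw [MulEquiv.orderOf_eq]
      exact hv2
    exact hle hu
  have hp : p.Prime := Fact.out
  obtain ⟨b, hb⟩ := IsPGroup.iff_card.1 Pb.2
  have hquot : O₂.index = p ^ b := by
    rw [hO₂, Subgroup.index_comap_of_surjective _ (QuotientGroup.mk'_surjective _), hcompl.symm.index_eq_card]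
    exact hb
  set O' := O.map O₂.subtype with hO'
  have hOp : ¬ p ∣ Nat.card O := by
    rw [← hOc.index_eq_card]
    exact Q.not_dvd_index
  obtain ⟨c, hc⟩ := IsPGroup.iff_card.1 Q.2
  -- the `p'`-elements of `M` lie in `O`
  have helem : ∀ g : M, ¬ p ∣ orderOf g → g ∈ O' := by
    intro g hg
    have hg2 : g ∈ O₂ := by
      rw [← QuotientGroup.eq_one_iff, ← orderOf_eq_one_iff]
      refine Nat.eq_one_of_dvd_coprimes ((hp.coprime_iff_not_dvd.2 hg).pow_left b)
        ?_ (orderOf_map_dvd (QuotientGroup.mk' O₂) g)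
      exact hquot ▸ orderOf_dvd_natCard _
    refine ⟨⟨g, hg2⟩, ?_, rfl⟩
    show (⟨g, hg2⟩ : O₂) ∈ O
    rw [← QuotientGroup.eq_one_iff, ← orderOf_eq_one_iff]
    refine Nat.eq_one_of_dvd_coprimes ((hp.coprime_iff_not_dvd.2 hg).pow_left c) ?_ ?_
    · refine (orderOf_dvd_natCard _).trans (dvd_of_eq ?_)
      show O.index = p ^ c
      rw [hOc.symm.index_eq_card, hc]
    · exact (orderOf_map_dvd (QuotientGroup.mk' O) (⟨g, hg2⟩ : O₂)).trans (by rw [Subgroup.orderOf_mk])
  have hK₀O : K₀ ≤ O'.map M.subtype := by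
    rw [hK₀, Subgroup.closure_le]
    rintro v ⟨hv1, hv2⟩
    exact ⟨⟨v, hv1⟩, helem _ (by rwa [Subgroup.orderOf_mk]), rfl⟩
  have hOK₀ : O'.map M.subtype ≤ K₀ := by
    rintro _ ⟨u, ⟨o, ho, rfl⟩, rfl⟩
    refine Subgroup.subset_closure ⟨(o : M).2, fun h => hOp (h.trans ?_)⟩
    rw [show orderOf (M.subtype (O₂.subtype o)) = orderOf o by
      rw [orderOf_injective M.subtype M.subtype_injective, orderOf_injective O₂.subtype O₂.subtype_injective]]
    exact Subgroup.orderOf_dvd_natCard O ho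
  have hcard : Nat.card (O'.map M.subtype) = Nat.card O := by
    rw [Subgroup.card_map_of_injective M.subtype_injective, hO', Subgroup.card_map_of_injective O₂.subtype_injective]
  refine ⟨K₀, hK₀n, ?_, ?_⟩
  · rw [eq_top_iff, ← hfrat]
    refine sup_le ?_ le_sup_right
    -- `M = K₀ P`
    have h1 : Nat.card M ≤ Nat.card (K₀ ⊔ (P : Subgroup G) : Subgroup G) := by
      haveI := hK₀n
      have hdisj : Disjoint K₀ (P : Subgroup G) := by
        rw [disjoint_iff, eq_bot_iff]
        rintro v ⟨hv1, hv2⟩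
        rw [Subgroup.mem_bot, ← orderOf_eq_one_iff]
        obtain ⟨d, hd⟩ := IsPGroup.iff_card.1 P.2
        exact Nat.eq_one_of_dvd_coprimes ((hp.coprime_iff_not_dvd.2 hOp).pow_left d)
          (hd ▸ Subgroup.orderOf_dvd_natCard _ hv2) (hcard ▸ Subgroup.orderOf_dvd_natCard _ (hK₀O hv1))
      have hmulcard : Nat.card (K₀ ⊔ (P : Subgroup G) : Subgroup G) = Nat.card K₀ * Nat.card (P : Subgroup G) := by
        have e : (K₀ ⊔ (P : Subgroup G) : Subgroup G) = ((K₀ : Set G) * ((P : Subgroup G) : Set G) : Set G) :=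
          Subgroup.normal_mul K₀ (P : Subgroup G)
        rw [← SetLike.coe_sort_coe, Nat.card_congr (Equiv.setCongr e), ← Nat.card_prod]
        refine (Nat.card_congr (Equiv.ofBijective (fun z : K₀ × (P : Subgroup G) =>
          (⟨(z.1 : G) * z.2, Set.mul_mem_mul z.1.2 z.2.2⟩ : ((K₀ : Set G) * ((P : Subgroup G) : Set G) : Set G)))
          ⟨fun a b h => Subgroup.mul_injective_of_disjoint hdisj (congrArg Subtype.val h), ?_⟩)).symm
        rintro ⟨_, u, hu, v, hv, rfl⟩
        exact ⟨(⟨u, hu⟩, ⟨v, hv⟩), rfl⟩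
      have hK₀card : Nat.card K₀ = Nat.card O := by rw [le_antisymm hK₀O hOK₀, hcard]
      rw [hmulcard, hK₀card, ← O₂.card_mul_index, hquot, ← O.card_mul_index, hOc.symm.index_eq_card, hc,
        mul_assoc, ← pow_add]
      refine Nat.mul_le_mul le_rfl ?_
      have h2 : p ^ (c + b) ∣ Nat.card G := by
        refine dvd_trans ?_ (Subgroup.card_subgroup_dvd_card M)
        rw [pow_add, ← hc, ← hquot, ← O₂.card_mul_index, ← hOc.symm.index_eq_card]
        exact Nat.mul_dvd_mul_right (Subgroup.index_dvd_card O) _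
      rw [P.card_eq_multiplicity]
      exact Nat.pow_le_pow_right hp.pos ((hp.pow_dvd_iff_le_factorization Nat.card_pos.ne').1 h2)
    have h3 : K₀ ⊔ (P : Subgroup G) = M := Subgroup.eq_of_le_of_card_ge
      (sup_le (hK₀O.trans (Subgroup.map_subtype_le _)) hPM) h1
    rw [← h3]
    exact sup_le_sup le_rfl hPN
  · rw [eq_bot_iff]
    rintro v ⟨hv1, hv2⟩
    have hvP : v ∈ (P : Subgroup G) := hMN ▸ Subgroup.mem_inf.2 ⟨Subgroup.map_subtype_le _ (hK₀O hv1), hv2⟩
    rw [Subgroup.mem_bot, ← orderOf_eq_one_iff]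
    obtain ⟨d, hd⟩ := IsPGroup.iff_card.1 P.2
    exact Nat.eq_one_of_dvd_coprimes ((hp.coprime_iff_not_dvd.2 hOp).pow_left d)
      (hd ▸ Subgroup.orderOf_dvd_natCard _ hvP) (hcard ▸ Subgroup.orderOf_dvd_natCard _ (hK₀O hv1))

/-- The easy direction. -/
theorem extends_of_complement (N K : Subgroup G) [K.Normal] [Fintype N] (hsup : K ⊔ N = ⊤) (hinf : K ⊓ N = ⊥)
    (θ : IrrCharacter N) : ∃ χ : IrrCharacter G, ∀ x : N, (χ : G → ℂ) x = (θ : N → ℂ) x := by
  have hsurj : Function.Surjective ((QuotientGroup.mk' K).comp N.subtype) := by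
    intro q
    obtain ⟨g, rfl⟩ := QuotientGroup.mk'_surjective K q
    have hg : g ∈ ((K ⊔ N : Subgroup G) : Set G) := hsup ▸ Subgroup.mem_top g
    rw [Subgroup.normal_mul] at hg
    obtain ⟨k, hk, n, hn, rfl⟩ := hg
    refine ⟨⟨n, hn⟩, ?_⟩
    show QuotientGroup.mk' K n = QuotientGroup.mk' K (k * n)
    rw [map_mul, QuotientGroup.mk'_apply, QuotientGroup.mk'_apply, (QuotientGroup.eq_one_iff k).2 hk, one_mul]
  have hinj : Function.Injective ((QuotientGroup.mk' K).comp N.subtype) := by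
    refine (injective_iff_map_eq_one _).2 fun n hn => Subtype.ext ?_
    have h1 : (n : G) ∈ K := (QuotientGroup.eq_one_iff (n : G)).1 hn
    exact Subgroup.mem_bot.1 (hinf ▸ Subgroup.mem_inf.2 ⟨h1, n.2⟩)
  let e := MulEquiv.ofBijective _ ⟨hinj, hsurj⟩
  let π : G →* N := e.symm.toMonoidHom.comp (QuotientGroup.mk' K)
  have hπ : ∀ n : N, π n = n := fun n => e.symm_apply_apply n
  refine ⟨⟨fun g => (θ : N → ℂ) (π g), isIrrCharacter_comp_surjective θ.2 π fun n => ⟨n, hπ n⟩⟩, fun x => ?_⟩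
  exact congrArg _ (hπ x)

end CfsgLib.NormalizerExtension
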